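import Cfsg.Agent.KZ.Tool.Res
import Cfsg.Agent.KZ.Red.Cc
import Cfsg.Agent.H669.OverCount
import Cfsg.Agent.S0854
import Cfsg.Agent.S0856
import Cfsg.Agent.Characters.GaloisIrr

/-!
# KZ: members and normal subgroups, second part (helper40)

* `mass`: `|A| k0(A) = ∑ c(θ) |stab θ|`; upper bounds `cc_le_k`, `cc_le_relIndex`, `cc_le_cent`; Gallagher `cc_ge_quot`;
* TWO: `two`, `upo`, `index_two`;
* GAL: `gal`, `gal_map`, `gal_pow`, `mem_map`, `mem_pow`;
* `Apart3`, `P10`, `P4`, `ten_le`, `twelve_le`, `lo_of`, transport along isomorphisms.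
-/

set_option autoImplicit false
set_option linter.unusedSectionVars false

namespace Cfsg.Agent.KZ.Res

open Cfsg Cfsg.Agent.KZ.Tool Cfsg.Agent.KZ.Red Cfsg.Agent.Characters.Core Cfsg.Agent.Blocks.Basic
  Cfsg.Agent.Blocks.Local

universe u v

variable {M : Ideal AlgInt} {A : Type u} [Group A] [Finite A] {N : Subgroup A} [hN : N.Normal]

/-! ### the mass formula -/

theorem sum_card_stab [Fintype (IrrCharacter ↥N)] (χ : IrrCharacter A) [DecidablePred (Over N χ)] :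
    ∑ θ ∈ Finset.univ.filter (Over N χ), Nat.card ↥(stab θ : Subgroup A) = Nat.card A := by
  classical
  have := Fintype.ofFinite A
  obtain ⟨θ₀, h₀⟩ := exists_under N χ
  rw [Nat.card_eq_fintype_card, ← Finset.card_univ, Finset.card_eq_sum_card_fiberwise (f := fun g : A => cj g θ₀)
    (t := Finset.univ.filter (Over N χ)) fun g _ => by simpa using (over_cj g).2 h₀]
  refine Finset.sum_congr rfl fun θ hθ => ?_
  obtain ⟨g, rfl⟩ := gconj_iff.1 (gconj_of_over h₀ (Finset.mem_filter.1 hθ).2)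
  rw [← Nat.card_eq_finsetCard]
  exact Nat.card_congr
    { toFun := fun s => ⟨g * s, by simpa [cj_mul] using mem_stab.1 s.2⟩
      invFun := fun x => ⟨g⁻¹ * x, by
        rw [mem_stab, ← cj_mul, mul_inv_cancel_left]
        exact (Finset.mem_filter.1 x.2).2⟩
      left_inv := fun s => Subtype.ext (inv_mul_cancel_left g s)
      right_inv := fun x => Subtype.ext (mul_inv_cancel_left g x) }

/-- **mass formula** -/
theorem mass (hM : IsPModular 3 M) [Fintype (IrrCharacter ↥N)] [DecidablePred (Mem M : IrrCharacter ↥N → Prop)] :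
    k0 M A * Nat.card A = ∑ θ ∈ Finset.univ.filter (Mem M), cc M N θ * Nat.card ↥(stab θ : Subgroup A) := by
  classical
  have : Finite (IrrCharacter A) := finite_irr
  have := Fintype.ofFinite (IrrCharacter A)
  have h1 : ∀ θ : IrrCharacter ↥N, cc M N θ = ∑ χ ∈ Finset.univ.filter (Mem M), if Over N χ θ then 1 else 0 := fun θ => by
    rw [cc, Nat.card_eq_fintype_card, Fintype.card_subtype, Finset.sum_boole, Finset.filter_filter]
    rfl
  rw [Finset.sum_subset (Finset.filter_subset _ Finset.univ) fun θ _ h => by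
    rw [cc_eq_zero hM (by simpa using h), zero_mul]]
  simp only [h1, Finset.sum_mul]
  rw [Finset.sum_comm, k0_eq, Nat.card_eq_fintype_card, Fintype.card_subtype, ← smul_eq_mul, ← Finset.sum_const]
  refine Finset.sum_congr rfl fun χ _ => ?_
  rw [← sum_card_stab (N := N) χ, Finset.sum_filter]
  exact Finset.sum_congr rfl fun θ _ => by split_ifs <;> simp

/-! ### bounds for `c(θ)` -/

theorem card_over_le (θ : IrrCharacter ↥N) : Nat.card {χ : IrrCharacter A // Over N χ θ} ≤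
    Nat.card (ConjClasses (↥(stab θ : Subgroup A) ⧸ N.subgroupOf (stab θ))) := by
  have := Fintype.ofFinite A
  have := Fintype.ofFinite ↥N
  have := Fintype.ofFinite ↥(stab θ : Subgroup A)
  have := Fintype.ofFinite ↥(N.subgroupOf (stab θ : Subgroup A))
  have : Finite (IrrCharacter ↥(stab θ : Subgroup A)) := finite_irr
  have hT : ∀ g : A, g ∈ (stab θ : Subgroup A) ↔
      ∀ n : ↥N, (θ : ↥N → ℂ) ⟨g * n * g⁻¹, hN.conj_mem (n : A) n.2 g⟩ = (θ : ↥N → ℂ) n := fun g => by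
    rw [mem_stab, ← fixes_iff_cj]
    exact forall_congr' fun n => by rw [conjNormal_eq]
  refine le_trans ?_ (H669.OverCount.card_over_le (N.subgroupOf (stab θ : Subgroup A))
    (tr (Subgroup.subgroupOfEquivOfLe (le_stab θ)) θ).2 fun g n => (hT g).1 g.2 ⟨n.1, n.2⟩)
  choose ψ h1 h2 h3 using fun χ : {χ : IrrCharacter A // Over N χ θ} =>
    S0854.result N _ θ.2 (stab θ) hT (le_stab θ) _ χ.1.2 (over_iff.1 χ.2)
  refine Nat.card_le_card_of_injective (fun χ => ⟨⟨ψ χ, h1 χ⟩, ?_⟩) fun χ χ' e => Subtype.ext (Subtype.ext ?_)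
  · have h4 := Characters.Clifford.classInner_comp_mulEquiv (Subgroup.subgroupOfEquivOfLe (le_stab θ))
      (fun n : ↥N => ψ χ ⟨(n : A), le_stab θ n.2⟩) (θ : ↥N → ℂ)
    rw [h3 χ] at h4
    exact fun h5 => over_iff.1 χ.2 (h4.symm.trans h5)
  · rw [← h2 χ, ← h2 χ', show ψ χ = ψ χ' from congrArg Subtype.val (Subtype.mk.inj e)]

theorem cc_le_card_over (θ : IrrCharacter ↥N) : cc M N θ ≤ Nat.card {χ : IrrCharacter A // Over N χ θ} :=
  haveI : Finite (IrrCharacter A) := finite_irr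
  Nat.card_le_card_of_injective (fun χ => ⟨χ.1, χ.2.2⟩) fun _ _ e => Subtype.ext (Subtype.mk.inj e)

theorem cc_le_k (θ : IrrCharacter ↥N) :
    cc M N θ ≤ Nat.card (ConjClasses (↥(stab θ : Subgroup A) ⧸ N.subgroupOf (stab θ))) :=
  (cc_le_card_over θ).trans (card_over_le θ)

theorem card_conj_le (G : Type v) [Group G] [Finite G] : Nat.card (ConjClasses G) ≤ Nat.card G :=
  Nat.card_le_card_of_surjective _ ConjClasses.mk_surjective

theorem cc_le_relIndex (θ : IrrCharacter ↥N) : cc M N θ ≤ N.relIndex (stab θ) := (cc_le_k θ).trans (card_conj_le _)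

/-- Gallagher: the products of an extension with the characters of the quotient -/
theorem exists_gall {θ : IrrCharacter ↥N} {η : IrrCharacter A} (h : ∀ n : ↥N, (η : A → ℂ) n = (θ : ↥N → ℂ) n) :
    ∃ F : IrrCharacter (A ⧸ N) → IrrCharacter A, Function.Injective F ∧
      (∀ β g, (F β : A → ℂ) g = (β : A ⧸ N → ℂ) g * (η : A → ℂ) g) ∧
      ∀ χ : IrrCharacter A, Over N χ θ ↔ ∃ β, F β = χ := by
  have := Fintype.ofFinite A
  have := Fintype.ofFinite ↥N
  have hB := S0856.result N 1 θ isIrr_one θ.2 (fun _ _ => rfl)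
    (fun g n => by rw [← h, ← h]; exact isIrr_isClassFunction η.2 _ _) (by rw [one_mul]; exact θ.2) η η.2 h
  have h0 : ∀ (φ : IrrCharacter ↥N) (χ : IrrCharacter A), classInner (indFun N φ) (χ : A → ℂ) ≠ 0 ↔ Over N χ φ :=
    fun φ χ => by
      rw [over_iff, CharactersDeep.NormalInd.classInner_indFun N _ _ (isIrr_isClassFunction χ.2), ← classInner_conj_symm,
        map_ne_zero]
  have h1 : ∀ β : IrrCharacter (A ⧸ N), (pull (QuotientGroup.mk' N) (QuotientGroup.mk'_surjective N) β : A → ℂ) ∈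
      {β : A → ℂ | IsIrrCharacter A β ∧ classInner (indFun N 1) β ≠ 0} := fun β =>
    ⟨(pull _ _ β).2, (h0 (triv ↥N) _).2 (over_triv_of_ker fun n hn => by
      rw [pull_apply, pull_apply, map_one, QuotientGroup.mk'_apply, (QuotientGroup.eq_one_iff n).2 hn])⟩
  rw [one_mul] at hB
  refine ⟨fun β => ⟨_, (hB.mapsTo (h1 β)).1⟩, fun β β' e => pull_inj _ (QuotientGroup.mk'_surjective N)
    (Subtype.ext (hB.injOn (h1 β) (h1 β') (congrArg Subtype.val e))), fun _ _ => rfl, fun χ => ⟨fun h2 => ?_, ?_⟩⟩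
  · obtain ⟨b, ⟨h3, h4⟩, h5⟩ := hB.surjOn ⟨χ.2, (h0 θ χ).2 h2⟩
    obtain ⟨β, hβ⟩ := exists_pull_of_over_triv ((h0 (triv ↥N) ⟨b, h3⟩).1 h4)
    refine ⟨β, Subtype.ext ?_⟩
    rw [← h5, show b = _ from congrArg Subtype.val hβ]
  · rintro ⟨β, rfl⟩
    exact (h0 θ _).1 (hB.mapsTo (h1 β)).2

/-- the number of characters over a character which extends -/
theorem card_over_eq {θ : IrrCharacter ↥N} {η : IrrCharacter A} (h : ∀ n : ↥N, (η : A → ℂ) n = (θ : ↥N → ℂ) n) :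
    Nat.card {χ : IrrCharacter A // Over N χ θ} = Nat.card (ConjClasses (A ⧸ N)) := by
  obtain ⟨F, h1, -, h3⟩ := exists_gall h
  rw [← card_irr]
  exact (Nat.card_congr (Equiv.ofBijective (fun β => (⟨F β, (h3 _).2 ⟨β, rfl⟩⟩ : {χ : IrrCharacter A // Over N χ θ}))
    ⟨fun _ _ e => h1 (congrArg Subtype.val e), fun χ => ((h3 _).1 χ.2).imp fun _ e => Subtype.ext e⟩)).symm

/-- if `C(P) ≤ N` and the index is prime to `3`, every character over a member is a member -/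
theorem mem_of_over (hM : IsPModular 3 M) (h3 : ¬ 3 ∣ N.index) (P : Sylow 3 A)
    (hC : Subgroup.centralizer ((P : Subgroup A) : Set A) ≤ N) {χ : IrrCharacter A} {θ : IrrCharacter ↥N} (hθ : Mem M θ)
    (h : Over N χ θ) : Mem M χ := by
  classical
  have : Fact (Nat.Prime 3) := ⟨Nat.prime_three⟩
  have := isPrime_of_isPModular hM
  have := Fintype.ofFinite ↥N
  have : Finite (IrrCharacter ↥N) := finite_irr
  have := Fintype.ofFinite (IrrCharacter ↥N)
  refine (mem_iff hM P χ).2 ⟨not_dvd_deg_of_over h3 h hθ.2, fun x hx _ => ?_⟩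
  obtain ⟨m, hm⟩ := exists_nat_comb (Characters.Clifford.isCharacter_restrict N (isIrr_isCharacter χ.2))
  have h1 : ∀ n : ↥N, (χ : A → ℂ) n = ∑ ψ : IrrCharacter ↥N, (m ψ : ℂ) * (ψ : ↥N → ℂ) n := fun n => by
    simpa using congrFun hm n
  rw [h1 ⟨x, hC hx⟩, show (χ : A → ℂ) 1 = _ from h1 1]
  refine memLocalIdeal_sum_sub_sum fun ψ _ => ?_
  rw [← mul_sub]
  by_cases h2 : m ψ = 0
  · rw [h2, Nat.cast_zero, zero_mul]
    exact memLocalIdeal_zero
  · refine memLocalIdeal_mul_left (memLocalRing_natCast _) (congr_of_mem hM (P.subtype (sylow_le_of_index h3 P))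
      (mem_of_gconj hM (gconj_of_over h (over_iff.2 ?_)) hθ).1 fun y hy => Subtype.ext (hx y hy))
    rw [hm, classInner_sum_nsmul_irr]
    exact Nat.cast_ne_zero.2 h2

theorem cc_eq_card_over (hM : IsPModular 3 M) (h3 : ¬ 3 ∣ N.index) (P : Sylow 3 A)
    (hC : Subgroup.centralizer ((P : Subgroup A) : Set A) ≤ N) {θ : IrrCharacter ↥N} (hθ : Mem M θ) :
    cc M N θ = Nat.card {χ : IrrCharacter A // Over N χ θ} :=
  Nat.card_congr (Equiv.subtypeEquivRight fun _ => and_iff_right_of_imp (mem_of_over hM h3 P hC hθ))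

/-! ### from `N` to `N C(P)` -/

section Sub

variable {K : Subgroup A}

theorem sup_cent_sub (P : Sylow 3 A) (hP : (P : Subgroup A) ≤ K) (hNK : N ≤ K)
    (hK : K ≤ N ⊔ Subgroup.centralizer ((P : Subgroup A) : Set A)) :
    N.subgroupOf K ⊔ Subgroup.centralizer (((P.subtype hP : Sylow 3 ↥K) : Subgroup ↥K) : Set ↥K) = ⊤ := by
  rw [eq_top_iff]
  intro k _
  obtain ⟨n, hn, c, hc, h⟩ : ∃ n ∈ N, ∃ c ∈ Subgroup.centralizer ((P : Subgroup A) : Set A), n * c = k := by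
    have := hK k.2
    rw [← SetLike.mem_coe, Subgroup.normal_mul] at this
    exact this
  have h1 : c ∈ K := by
    rw [← inv_mul_cancel_left n c, h]
    exact mul_mem (inv_mem (hNK hn)) k.2
  rw [show k = ⟨n, hNK hn⟩ * ⟨c, h1⟩ from Subtype.ext h.symm]
  exact mul_mem (Subgroup.mem_sup_left hn) (Subgroup.mem_sup_right fun y hy => Subtype.ext (hc y hy))

theorem not_dvd_sub (h3 : ¬ 3 ∣ N.index) (hNK : N ≤ K) : ¬ 3 ∣ (N.subgroupOf K).index := fun h =>
  h3 (h.trans (Subgroup.relIndex_dvd_index_of_le hNK))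

/-- restriction is a bijection from the members of `K` onto the members of `N` if `N ≤ K ≤ N C(P)` -/
theorem exists_same (hM : IsPModular 3 M) (h3 : ¬ 3 ∣ N.index) (P : Sylow 3 A) (hNK : N ≤ K)
    (hK : K ≤ N ⊔ Subgroup.centralizer ((P : Subgroup A) : Set A)) :
    ∃ e : {ψ : IrrCharacter ↥K // Mem M ψ} ≃ {θ : IrrCharacter ↥N // Mem M θ},
      ∀ ψ (n : ↥N), (ψ.1 : ↥K → ℂ) ⟨n, hNK n.2⟩ = ((e ψ).1 : ↥N → ℂ) n := by
  have : Fact (Nat.Prime 3) := ⟨Nat.prime_three⟩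
  obtain ⟨h1, h2⟩ := S4551.result 3 M hM (N.subgroupOf K) (not_dvd_sub h3 hNK) _
    (sup_cent_sub P ((sylow_le_of_index h3 P).trans hNK) hNK hK)
  choose r hr1 hr2 using fun ψ : {ψ : IrrCharacter ↥K // Mem M ψ} => h1 ψ.1 ψ.2.1
  refine ⟨Equiv.ofBijective (fun ψ => ⟨(tr (Subgroup.subgroupOfEquivOfLe hNK)).symm (r ψ), (mem_tr hM
    (Subgroup.subgroupOfEquivOfLe hNK)).1 (by rw [Equiv.apply_symm_apply]; exact mem_of_res hM ψ.2 (hr2 ψ))⟩)
    ⟨fun χ ψ e => ?_, fun θ => ?_⟩, fun ψ n => hr2 ψ ⟨⟨n, hNK n.2⟩, n.2⟩⟩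
  · have e' : r χ = r ψ := (tr _).symm.injective (congrArg Subtype.val e)
    exact Subtype.ext ((h2 _ (hr1 χ)).unique ⟨χ.2.1, hr2 χ⟩ ⟨ψ.2.1, e' ▸ hr2 ψ⟩)
  · have h7 := (mem_tr hM (Subgroup.subgroupOfEquivOfLe hNK)).2 θ.2
    obtain ⟨χ, ⟨h4, h5⟩, -⟩ := h2 _ h7.1
    have h6 : Mem M χ := ⟨h4, by rw [deg_of_res h5]; exact h7.2⟩
    exact ⟨⟨χ, h6⟩, Subtype.ext ((Equiv.symm_apply_eq _).2
      (Subtype.ext (funext fun n => (hr2 ⟨χ, h6⟩ n).symm.trans (h5 n))))⟩

/-- SAME for an intermediate subgroup -/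
theorem same_sub (hM : IsPModular 3 M) (h3 : ¬ 3 ∣ N.index) (P : Sylow 3 A) (hNK : N ≤ K)
    (hK : K ≤ N ⊔ Subgroup.centralizer ((P : Subgroup A) : Set A)) : k0 M ↥K = k0 M ↥N := by
  obtain ⟨e, -⟩ := exists_same hM h3 P hNK hK
  exact Nat.card_congr e

variable [hK' : K.Normal]

theorem cj_res (hNK : N ≤ K) {ψ : IrrCharacter ↥K} {θ : IrrCharacter ↥N}
    (h : ∀ n : ↥N, (ψ : ↥K → ℂ) ⟨n, hNK n.2⟩ = (θ : ↥N → ℂ) n) (g : A) (n : ↥N) :
    (cj g ψ : ↥K → ℂ) ⟨n, hNK n.2⟩ = (cj g θ : ↥N → ℂ) n := by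
  rw [cj_apply, cj_apply, ← h]
  rfl

omit hK' in
theorem over_of_sub (hNK : N ≤ K) {χ : IrrCharacter A} {ψ : IrrCharacter ↥K} {θ : IrrCharacter ↥N}
    (h : ∀ n : ↥N, (ψ : ↥K → ℂ) ⟨n, hNK n.2⟩ = (θ : ↥N → ℂ) n) (h' : Over K χ ψ) : Over N χ θ :=
  Red.over_trans hNK h' (over_of_res fun n => h ⟨n.1, n.2⟩)

/-- the bijection of SAME preserves stabilisers and `c` -/
theorem exists_same' (hM : IsPModular 3 M) (h3 : ¬ 3 ∣ N.index) (P : Sylow 3 A) (hNK : N ≤ K)
    (hK : K ≤ N ⊔ Subgroup.centralizer ((P : Subgroup A) : Set A)) :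
    ∃ e : {ψ : IrrCharacter ↥K // Mem M ψ} ≃ {θ : IrrCharacter ↥N // Mem M θ},
      (∀ ψ (n : ↥N), (ψ.1 : ↥K → ℂ) ⟨n, hNK n.2⟩ = ((e ψ).1 : ↥N → ℂ) n) ∧
      (∀ ψ, (stab (e ψ).1 : Subgroup A) = stab ψ.1) ∧ ∀ ψ, cc M N (e ψ).1 = cc M K ψ.1 := by
  obtain ⟨e, he⟩ := exists_same hM h3 P hNK hK
  have h1 : ∀ ψ (g : A), (e ⟨cj g ψ.1, (mem_cj hM g).2 ψ.2⟩).1 = cj g (e ψ).1 := fun ψ g =>
    Subtype.ext (funext fun n => (he _ n).symm.trans (cj_res hNK (he ψ) g n))
  refine ⟨e, he, fun ψ => Subgroup.ext fun g => ?_, fun ψ => Nat.card_congr (Equiv.subtypeEquivRight fun χ =>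
    and_congr_right fun hχ => ⟨fun h => ?_, over_of_sub hNK (he ψ)⟩)⟩
  · rw [mem_stab, mem_stab, ← h1, Subtype.val_inj, e.injective.eq_iff, Subtype.ext_iff]
  · obtain ⟨φ, h2⟩ := exists_under K χ
    obtain ⟨g, hg⟩ := gconj_iff.1 (gconj_of_over (over_of_sub hNK (he ⟨φ, mem_under hM hχ h2⟩) h2) h)
    rw [← h1, Subtype.val_inj, e.injective.eq_iff] at hg
    rw [← hg]
    exact (over_cj g).2 h2

theorem fx_sub (hM : IsPModular 3 M) (h3 : ¬ 3 ∣ N.index) (P : Sylow 3 A) (hNK : N ≤ K)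
    (hK : K ≤ N ⊔ Subgroup.centralizer ((P : Subgroup A) : Set A)) : fx M K = fx M N := by
  obtain ⟨e, -, h1, -⟩ := exists_same' hM h3 P hNK hK
  exact Nat.card_congr ((Equiv.subtypeSubtypeEquivSubtypeInter _ _).symm.trans ((e.subtypeEquiv fun ψ => by
    rw [invU_iff, invU_iff, h1]).trans (Equiv.subtypeSubtypeEquivSubtypeInter _ fun θ => InvU N ⊤ θ)))

/-- `c(θ) ≤ |stab θ : N C(P)|` -/
theorem cc_le_cent (hM : IsPModular 3 M) (h3 : ¬ 3 ∣ N.index) (P : Sylow 3 A) (hNK : N ≤ K)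
    (hK : K ≤ N ⊔ Subgroup.centralizer ((P : Subgroup A) : Set A)) {θ : IrrCharacter ↥N} (hθ : Mem M θ) :
    cc M N θ ≤ K.relIndex (stab θ) := by
  obtain ⟨e, -, h1, h2⟩ := exists_same' hM h3 P hNK hK
  have h4 := h1 (e.symm ⟨θ, hθ⟩)
  have h5 := h2 (e.symm ⟨θ, hθ⟩)
  rw [e.apply_symm_apply] at h4 h5
  rw [h4, h5]
  exact cc_le_relIndex _

/-- a fixed member, `A / N C(P)` cyclic -/
theorem cc_fixed (hM : IsPModular 3 M) (h3 : ¬ 3 ∣ N.index) (P : Sylow 3 A)
    (hK : K = N ⊔ Subgroup.centralizer ((P : Subgroup A) : Set A)) (hc : IsCyclic (A ⧸ K)) {θ : IrrCharacter ↥N}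
    (hθ : Mem M θ) (hi : InvU N ⊤ θ) : cc M N θ = K.index := by
  have hNK : N ≤ K := hK ▸ le_sup_left
  obtain ⟨e, -, h1, h2⟩ := exists_same' hM h3 P hNK hK.le
  have h4 := h1 (e.symm ⟨θ, hθ⟩)
  have h5 := h2 (e.symm ⟨θ, hθ⟩)
  rw [e.apply_symm_apply] at h4 h5
  obtain ⟨η, hη⟩ := exists_ext hc (θ := (e.symm ⟨θ, hθ⟩).1) (by rw [invU_iff, ← h4, ← invU_iff]; exact hi)
  rw [h5, cc_eq_card_over hM (fun h => h3 (h.trans (Subgroup.index_dvd_of_le hNK))) P (hK ▸ le_sup_right)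
    (e.symm ⟨θ, hθ⟩).2, card_over_eq hη]
  refine Nat.card_congr (Equiv.ofBijective ConjClasses.mk ⟨fun a b h => ?_, ConjClasses.mk_surjective⟩).symm
  obtain ⟨c, rfl⟩ := isConj_iff.1 (ConjClasses.mk_eq_mk_iff_isConj.1 h)
  have : IsMulCommutative (A ⧸ K) := inferInstance
  rw [mul_comm' c a, mul_inv_cancel_right]

end Sub

/-! ### TWO -/

/-- **TWO** -/
theorem two (hM : IsPModular 3 M) (h3 : ¬ 3 ∣ N.index) (P : Sylow 3 A)
    (hE : (N ⊔ Subgroup.centralizer ((P : Subgroup A) : Set A)).index = 2) : 2 * k0 M A = 3 * fx M N + k0 M ↥N := by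
  classical
  have : Finite (IrrCharacter ↥N) := finite_irr
  have := Fintype.ofFinite (IrrCharacter ↥N)
  have hn := normal_sup_cent P (sylow_le_of_index h3 P)
  set K := N ⊔ Subgroup.centralizer ((P : Subgroup A) : Set A) with hK
  have h1 := mass (N := N) hM
  have h2 : Nat.card A = Nat.card ↥K * 2 := by rw [← hE, K.card_mul_index]
  have h4 : ∀ θ ∈ Finset.univ.filter (Mem M : IrrCharacter ↥N → Prop), cc M N θ * Nat.card ↥(stab θ : Subgroup A) =
      ((if InvU N ⊤ θ then 3 else 0) + 1) * Nat.card ↥K := fun θ hθ => by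
    have h5 := (Finset.mem_filter.1 hθ).2
    split_ifs with h6
    · rw [cc_fixed hM h3 P hK (cyclic_of_index_prime Nat.prime_two hE) h5 h6, hE, top_le_iff.1 (invU_iff.1 h6),
        Subgroup.card_top, h2]
      ring
    · have h7 : stab θ = K := by
        have h8 := cent_le_stab hM h3 P h5
        rcases (Nat.dvd_prime Nat.prime_two).1 (hE ▸ Subgroup.index_dvd_of_le h8) with h9 | h9
        · exact absurd (invU_iff.2 (Subgroup.index_eq_one.1 h9).ge) h6
        · have h10 : K.relIndex (stab θ) * (stab θ : Subgroup A).index = K.index := Subgroup.relIndex_mul_index h8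
          rw [h9, hE] at h10
          exact le_antisymm (Subgroup.relIndex_eq_one.1 (by omega)) h8
      have h11 := cc_le_cent hM h3 P le_sup_left hK.le h5
      rw [h7, Subgroup.relIndex_self] at h11
      rw [le_antisymm h11 (one_le_cc hM h3 h5), h7]
  rw [Finset.sum_congr rfl h4, ← Finset.sum_mul, h2, mul_comm (Nat.card ↥K), ← mul_assoc] at h1
  rw [mul_comm 2, Nat.eq_of_mul_eq_mul_right Nat.card_pos h1, Finset.sum_add_distrib, ← Finset.sum_filter,
    Finset.sum_const, Finset.sum_const, Finset.filter_filter, fx_eq, k0_eq, Nat.card_eq_fintype_card,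
    Nat.card_eq_fintype_card, Fintype.card_subtype, Fintype.card_subtype, smul_eq_mul, smul_eq_mul, mul_one, mul_comm]

/-- `|A : N C(P)| ≤ 2` -/
theorem upo (hM : IsPModular 3 M) (h3 : ¬ 3 ∣ N.index) (P : Sylow 3 A)
    (hE : (N ⊔ Subgroup.centralizer ((P : Subgroup A) : Set A)).index ≤ 2) :
    k0 M A = k0 M ↥N ∨ 2 * k0 M A = 3 * fx M N + k0 M ↥N := by
  have h1 : (N ⊔ Subgroup.centralizer ((P : Subgroup A) : Set A)).index ≠ 0 := Subgroup.index_ne_zero_of_finite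
  by_cases h2 : (N ⊔ Subgroup.centralizer ((P : Subgroup A) : Set A)).index = 1
  · exact .inl (same hM h3 P (Subgroup.index_eq_one.1 h2))
  · exact .inr (two hM h3 P (by omega))

/-- index at most `2` -/
theorem index_two (hM : IsPModular 3 M) (h : N.index ≤ 2) : k0 M A = k0 M ↥N ∨ 2 * k0 M A = 3 * fx M N + k0 M ↥N := by
  have h1 : N.index ≠ 0 := Subgroup.index_ne_zero_of_finite
  obtain ⟨P⟩ : Nonempty (Sylow 3 A) := inferInstance
  exact upo hM (by omega) P ((Nat.le_of_dvd (by omega) (Subgroup.index_dvd_of_le le_sup_left)).trans h)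

/-! ### GAL -/

section Gal

variable {S : Type u} [Group S] {T : Type v} [Group T]

/-- `α` and `β` are not conjugate under an automorphism whose order modulo the inner automorphisms is prime to `3` -/
def Apart3 (α β : IrrCharacter S) : Prop :=
  ∀ (σ : MulAut S) (m : ℕ) (s : S), ¬ 3 ∣ m → σ ^ m = MulAut.conj s → ¬ ∀ x, (α : S → ℂ) (σ x) = (β : S → ℂ) x

theorem apart3_of_apart {α β : IrrCharacter S} (h : Apart α β) : Apart3 α β := fun σ _ _ _ _ => h σ

theorem apart_symm {α β : IrrCharacter S} (h : Apart α β) : Apart β α := fun σ h1 =>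
  h σ⁻¹ fun x => by rw [← h1]; simp

theorem apart3_symm {α β : IrrCharacter S} (h : Apart3 α β) : Apart3 β α := fun σ m s hm hs h1 =>
  h σ⁻¹ m s⁻¹ hm (by rw [inv_pow, hs, map_inv]) fun x => by rw [← h1]; simp

theorem apart_of_deg {α β : IrrCharacter S} (h : (α : S → ℂ) 1 ≠ (β : S → ℂ) 1) : Apart α β := fun σ h1 =>
  h (by rw [← h1, map_one])

theorem apart_of_charDegree {α β : IrrCharacter S} (h : charDegree (α : S → ℂ) ≠ charDegree (β : S → ℂ)) :
    Apart α β := apart_of_deg fun e => h (deg_eq e)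

/-- a character fixed by all automorphisms is apart from every other character -/
theorem apart_of_fixes {α β : IrrCharacter S} (h : ∀ σ : MulAut S, Fixes σ α) (hne : α ≠ β) : Apart α β := fun σ h1 =>
  hne (Subtype.ext (funext fun x => (h σ x).symm.trans (h1 x)))

theorem apart3_ne {α β : IrrCharacter S} (h : Apart3 α β) : α ≠ β := fun e =>
  h 1 1 1 (by decide) (by simp) fun _ => by rw [e]; rfl

theorem conjNormal_coe (n : ↥N) : (MulAut.conjNormal (n : A) : MulAut ↥N) = MulAut.conj n :=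
  MulEquiv.ext fun _ => Subtype.ext rfl

theorem not_gconj_of_apart3 (h3 : ¬ 3 ∣ N.index) {θ θ' : IrrCharacter ↥N} (h : Apart3 θ θ') : ¬ GConj N θ θ' :=
  fun ⟨g, h'⟩ => h _ N.index ⟨_, N.pow_index_mem g⟩ h3 (by rw [← map_pow, ← conjNormal_coe]) h'

theorem fixes_one (α : IrrCharacter S) : Fixes 1 α := fun _ => rfl

theorem fixes_mul {σ τ : MulAut S} {α : IrrCharacter S} (h : Fixes σ α) (h' : Fixes τ α) : Fixes (σ * τ) α :=
  fun x => (h _).trans (h' x)

theorem fixes_inv {σ : MulAut S} {α : IrrCharacter S} (h : Fixes σ α) : Fixes σ⁻¹ α := fun x => by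
  rw [← h]; simp

theorem fixes_pow {σ : MulAut S} {α : IrrCharacter S} (h : Fixes σ α) (k : ℕ) : Fixes (σ ^ k) α := by
  induction k with
  | zero => exact fixes_one α
  | succ k ih => rw [pow_succ]; exact fixes_mul ih h

theorem fixes_conj (s : S) (α : IrrCharacter S) : Fixes (MulAut.conj s) α := fun x => irr_conj α.2 x s

/-- `σ` fixes `α` if `σ ^ 3` does and the order of `σ` modulo the inner automorphisms is prime to `3` -/
theorem fixes_of_cube {σ : MulAut S} {m : ℕ} {s : S} (hm : ¬ 3 ∣ m) (hs : σ ^ m = MulAut.conj s) {α : IrrCharacter S}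
    (h : Fixes (σ ^ 3) α) : Fixes σ α := by
  have h1 : Fixes (σ ^ m) α := hs ▸ fixes_conj s α
  obtain ⟨k, rfl | rfl⟩ : ∃ k, m = 3 * k + 1 ∨ m = 3 * k + 2 := ⟨m / 3, by omega⟩
  · have := fixes_mul (fixes_inv (fixes_pow h k)) h1
    rwa [pow_succ σ (3 * k), pow_mul, inv_mul_cancel_left] at this
  · have := fixes_mul (fixes_inv h1) (fixes_pow h (k + 1))
    rwa [← pow_mul, show 3 * (k + 1) = 3 * k + 2 + 1 by ring, pow_succ σ (3 * k + 2), inv_mul_cancel_left] at this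

/-- **GAL**: an operation `F` which commutes with the automorphisms permutes `α, β, γ` cyclically -/
theorem gal (F : (S → ℂ) → S → ℂ) (hF : ∀ (σ : MulAut S) (f : S → ℂ), F (f ∘ σ) = F f ∘ σ) {α β γ : IrrCharacter S}
    (h1 : F α = β) (h2 : F β = γ) (h3 : F γ = α) (hne : α ≠ β) : Apart3 α β ∧ Apart3 β γ ∧ Apart3 γ α := by
  have key : ∀ {α β γ : IrrCharacter S}, F α = β → F β = γ → F γ = α → α ≠ β → Apart3 α β := by
    intro α β γ h1 h2 h3 hne σ m s hm hs h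
    have h4 : (α : S → ℂ) ∘ σ = β := funext h
    have h5 : (β : S → ℂ) ∘ σ = γ := by rw [← h1, ← hF, h4, h2]
    have h6 : (γ : S → ℂ) ∘ σ = α := by rw [← h2, ← hF, h5, h3]
    have h7 : Fixes σ α := fixes_of_cube hm hs fun x =>
      (congrFun h4 (σ (σ x))).trans ((congrFun h5 (σ x)).trans (congrFun h6 x))
    exact hne (Subtype.ext (funext fun x => (h7 x).symm.trans (h x)))
  have h4 : β ≠ γ := fun e => hne (Subtype.ext (by rw [← h3, ← e, h2, e]))
  have h5 : γ ≠ α := fun e => h4 (Subtype.ext (by rw [← h1, ← e, h3, e]))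
  exact ⟨key h1 h2 h3 hne, key h2 h3 h1 h4, key h3 h1 h2 h5⟩

/-- GAL for a map of the values -/
theorem gal_map (τ : ℂ → ℂ) {α β γ : IrrCharacter S} (h1 : ∀ x, τ ((α : S → ℂ) x) = (β : S → ℂ) x)
    (h2 : ∀ x, τ ((β : S → ℂ) x) = (γ : S → ℂ) x) (h3 : ∀ x, τ ((γ : S → ℂ) x) = (α : S → ℂ) x) (hne : α ≠ β) :
    Apart3 α β ∧ Apart3 β γ ∧ Apart3 γ α :=
  gal (fun f => τ ∘ f) (fun _ _ => rfl) (funext h1) (funext h2) (funext h3) hne

/-- GAL for a power map -/
theorem gal_pow (k : ℕ) {α β γ : IrrCharacter S} (h1 : ∀ x, (α : S → ℂ) (x ^ k) = (β : S → ℂ) x)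
    (h2 : ∀ x, (β : S → ℂ) (x ^ k) = (γ : S → ℂ) x) (h3 : ∀ x, (γ : S → ℂ) (x ^ k) = (α : S → ℂ) x) (hne : α ≠ β) :
    Apart3 α β ∧ Apart3 β γ ∧ Apart3 γ α :=
  gal (fun f x => f (x ^ k)) (fun σ f => funext fun x => congrArg f (map_pow σ x k)) (funext h1) (funext h2) (funext h3)
    hne

/-- members are permuted by the power maps -/
theorem mem_pow [Finite S] (hM : IsPModular 3 M) (k : ℕ) {α β : IrrCharacter S}
    (h : ∀ x, (α : S → ℂ) (x ^ k) = (β : S → ℂ) x) (hα : Mem M α) : Mem M β := by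
  have : Fact (Nat.Prime 3) := ⟨Nat.prime_three⟩
  obtain ⟨P⟩ : Nonempty (Sylow 3 S) := inferInstance
  have h1 : (β : S → ℂ) 1 = (α : S → ℂ) 1 := by rw [← h, one_pow]
  refine (mem_iff hM P β).2 ⟨by rw [deg_eq h1]; exact hα.2, fun x hx _ => ?_⟩
  rw [h1, ← h]
  exact congr_of_mem hM P hα.1 (pow_mem hx k)

/-- members are permuted by the field automorphisms -/
theorem mem_map [Finite S] (hM : IsPModular 3 M) (τ : ℂ ≃+* ℂ) {α β : IrrCharacter S}
    (h : ∀ x, τ ((α : S → ℂ) x) = (β : S → ℂ) x) (hα : Mem M α) : Mem M β := by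
  obtain ⟨m, -, hm⟩ := Characters.GaloisBasic.exists_pow_of_ringEquiv (G := S) τ
  exact mem_pow hM m (fun x => (hm _ (isIrr_isCharacter α.2) x).symm.trans (h x)) hα

/-- the Galois conjugate `x ↦ α (x ^ k)` -/
def pw [Finite S] {k : ℕ} (hk : k.Coprime (Nat.card S)) (α : IrrCharacter S) : IrrCharacter S :=
  ⟨fun x => (α : S → ℂ) (x ^ k), Characters.GaloisIrr.isIrr_pow hk α.2⟩

theorem mem_pw [Finite S] (hM : IsPModular 3 M) {k : ℕ} (hk : k.Coprime (Nat.card S)) {α : IrrCharacter S}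
    (hα : Mem M α) : Mem M (pw hk α) := mem_pow hM k (fun _ => rfl) hα

/-! ### sufficient criteria -/

/-- ten members, pairwise `Apart3` -/
def P10 (M : Ideal AlgInt) (S : Type u) [Group S] : Prop :=
  ∃ R : Finset (IrrCharacter S), 10 ≤ R.card ∧ (∀ θ ∈ R, Mem M θ) ∧ ∀ θ ∈ R, ∀ θ' ∈ R, θ ≠ θ' → Apart3 θ θ'

/-- every outer automorphism whose cube is inner fixes four members -/
def P4 (M : Ideal AlgInt) (S : Type u) [Group S] : Prop :=
  ∀ (σ : MulAut S) (s : S), σ ^ 3 = MulAut.conj s → (∀ t : S, σ ≠ MulAut.conj t) →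
    ∃ R : Finset (IrrCharacter S), 4 ≤ R.card ∧ ∀ θ ∈ R, Mem M θ ∧ Fixes σ θ

theorem p10_of_fam {ι : Type v} [Fintype ι] (θ : ι → IrrCharacter S) (hc : 10 ≤ Fintype.card ι) (hm : ∀ i, Mem M (θ i))
    (h : ∀ i j, i ≠ j → Apart3 (θ i) (θ j)) : P10 M S := by
  classical
  have hi : Function.Injective θ := fun i j e => by_contra fun h1 => apart3_ne (h i j h1) e
  refine ⟨Finset.univ.image θ, by rwa [Finset.card_image_of_injective _ hi], ?_, ?_⟩
  · simpa using hm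
  · simp only [Finset.mem_image, Finset.mem_univ, true_and]
    rintro _ ⟨i, rfl⟩ _ ⟨j, rfl⟩ e
    exact h i j fun h1 => e (congrArg θ h1)

/-- one family for all automorphisms -/
theorem p4_of_fam {ι : Type v} [Fintype ι] (θ : ι → IrrCharacter S) (hc : 4 ≤ Fintype.card ι) (hm : ∀ i, Mem M (θ i))
    (hi : Function.Injective θ) (h : ∀ (σ : MulAut S) (s : S), σ ^ 3 = MulAut.conj s → ∀ i, Fixes σ (θ i)) : P4 M S := by
  classical
  refine fun σ s hs _ => ⟨Finset.univ.image θ, by rwa [Finset.card_image_of_injective _ hi], ?_⟩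
  simpa using fun i => ⟨hm i, h σ s hs i⟩

/-- no outer automorphism of order `3` -/
theorem p4_of_out [Finite S] (h : ¬ 3 ∣ (MulAut.conj : S →* MulAut S).range.index) : P4 M S := by
  intro σ s hs hn
  have : (MulAut.conj : S →* MulAut S).range.Normal := ⟨by
    rintro _ ⟨x, rfl⟩ τ
    exact ⟨τ x, MulEquiv.ext fun y => by simp⟩⟩
  have h1 : (σ : MulAut S ⧸ (MulAut.conj : S →* MulAut S).range) ^ 3 = 1 := by
    rw [← QuotientGroup.mk_pow, QuotientGroup.eq_one_iff]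
    exact ⟨s, hs.symm⟩
  have h2 : orderOf (σ : MulAut S ⧸ (MulAut.conj : S →* MulAut S).range) = 1 :=
    Nat.Coprime.eq_one_of_dvd ((Nat.Prime.coprime_iff_not_dvd Nat.prime_three).2
      fun h3 => h (h3.trans (orderOf_dvd_natCard _))).symm (orderOf_dvd_of_pow_eq_one h1)
  obtain ⟨t, ht⟩ := (QuotientGroup.eq_one_iff _).1 (orderOf_eq_one_iff.1 h2)
  exact absurd ht.symm (hn t)

/-- index prime to `3` -/
theorem ten_le (hM : IsPModular 3 M) (h3 : ¬ 3 ∣ N.index) (h : P10 M ↥N) : 10 ≤ k0 M A := by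
  obtain ⟨R, h1, h2, h4⟩ := h
  exact h1.trans (orb hM h3 R h2 fun θ hθ θ' hθ' e => by_contra fun h5 => not_gconj_of_apart3 h3 (h4 θ hθ θ' hθ' h5) e)

/-- prime index: a member fixed by one element outside `N` is fixed -/
theorem invU_of_fixes {p : ℕ} (hp : p.Prime) (h : N.index = p) {g : A} (hg : g ∉ N) {θ : IrrCharacter ↥N}
    (hθ : Fixes (MulAut.conjNormal g : MulAut ↥N) θ) : InvU N ⊤ θ := by
  rw [invU_iff, top_le_iff, ← Subgroup.index_eq_one]
  refine ((Nat.dvd_prime hp).1 (h ▸ Subgroup.index_dvd_of_le (le_stab θ))).resolve_right fun h1 => hg ?_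
  have h2 : N.relIndex (stab θ) * (stab θ : Subgroup A).index = N.index := Subgroup.relIndex_mul_index (le_stab θ)
  rw [h1, h] at h2
  exact Subgroup.relIndex_eq_one.1 (Nat.eq_of_mul_eq_mul_right hp.pos (h2.trans (one_mul p).symm)) (fixes_iff_cj.1 hθ)

/-- index `3`, four members fixed by one element outside `N` -/
theorem twelve_le_of (hM : IsPModular 3 M) (h3 : N.index = 3) {g : A} (hg : g ∉ N) (R : Finset (IrrCharacter ↥N))
    (h1 : 4 ≤ R.card) (h2 : ∀ θ ∈ R, Mem M θ ∧ Fixes (MulAut.conjNormal g : MulAut ↥N) θ) : 12 ≤ k0 M A := by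
  have h4 := le_fx (M := M) (N := N) (fun θ : R => θ.1) Subtype.val_injective (fun θ => (h2 θ θ.2).1)
    fun θ => invU_of_fixes Nat.prime_three h3 hg (h2 θ θ.2).2
  rw [Fintype.card_coe] at h4
  rw [res3 hM h3]
  omega

/-- an element outside `N` does not induce an inner automorphism if `C(N) = 1` -/
theorem conjNormal_ne_conj (hc : Subgroup.centralizer (N : Set A) = ⊥) {g : A} (hg : g ∉ N) (t : ↥N) :
    (MulAut.conjNormal g : MulAut ↥N) ≠ MulAut.conj t := fun e => by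
  have h1 : (t : A)⁻¹ * g ∈ Subgroup.centralizer (N : Set A) := fun n hn => by
    have h2 : g * n * g⁻¹ = t * n * (t : A)⁻¹ := congrArg Subtype.val (MulEquiv.congr_fun e ⟨n, hn⟩)
    calc n * ((t : A)⁻¹ * g) = (t : A)⁻¹ * (t * n * (t : A)⁻¹) * g := by group
      _ = (t : A)⁻¹ * g * n := by rw [← h2]; group
  rw [hc, Subgroup.mem_bot, inv_mul_eq_one] at h1
  exact hg (h1 ▸ t.2)

/-- index `3` -/
theorem twelve_le (hM : IsPModular 3 M) (hc : Subgroup.centralizer (N : Set A) = ⊥) (h3 : N.index = 3) (h : P4 M ↥N) :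
    12 ≤ k0 M A := by
  obtain ⟨g, hg⟩ : ∃ g : A, g ∉ N := by
    by_contra h1
    rw [(Subgroup.eq_top_iff' N).2 (by simpa using h1), Subgroup.index_top] at h3
    omega
  obtain ⟨R, h1, h2⟩ := h (MulAut.conjNormal g) ⟨g ^ 3, h3 ▸ N.pow_index_mem g⟩ (by rw [← map_pow, ← conjNormal_coe])
    (conjNormal_ne_conj hc hg)
  exact twelve_le_of hM h3 hg R h1 h2

/-- the lower row from `P10` (only needed if `27 ≤ n(S)`) and `P4` -/
theorem lo_of {K : Fam} (h : ∀ (M : Ideal AlgInt), IsPModular 3 M → ∀ (S : Type) [Group S] [Finite S], IsSimpleGroup S →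
    ¬ IsMulCommutative S → 3 ∣ Nat.card S → K S → ((∀ Q : Sylow 3 S, 27 ≤ nab Q) → P10 M S) ∧ P4 M S) : RowLo K := by
  intro M hM A _ _ N hA hK hi P hP
  have := hA.normal
  obtain ⟨h1, h2⟩ := h M hM ↥N hA.simple hA.nonab hA.three hK
  rcases hi with hi | hi
  · exact ten_le hM hi (h1 fun Q => (nab_sub hi P Q).ge.trans' hP)
  · exact le_trans (by norm_num) (twelve_le hM hA.cent hi h2)

/-! ### transport along isomorphisms -/

theorem fixes_tr (e : S ≃* T) {σ : MulAut S} {α : IrrCharacter T} : Fixes σ (tr e α) ↔ Fixes (MulAut.congr e σ) α :=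
  ⟨fun h y => by simpa [tr_apply] using h (e.symm y), fun h x => by simpa [tr_apply] using h (e x)⟩

theorem nontriv_tr [Finite S] (e : S ≃* T) {α : IrrCharacter T} (h : Nontriv α) : Nontriv (tr e α) := fun h1 =>
  h (funext fun y => by simpa [tr_apply] using congrFun h1 (e.symm y))

theorem apart_tr (e : S ≃* T) {α β : IrrCharacter T} (h : Apart α β) : Apart (tr e α) (tr e β) := fun σ h1 =>
  h (MulAut.congr e σ) fun y => by simpa [tr_apply] using h1 (e.symm y)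

theorem congr_conj (e : S ≃* T) (s : S) : MulAut.congr e (MulAut.conj s) = MulAut.conj (e s) :=
  MulEquiv.ext fun y => by simp

theorem apart3_tr (e : S ≃* T) {α β : IrrCharacter T} (h : Apart3 α β) : Apart3 (tr e α) (tr e β) :=
  fun σ m s hm hs h1 => h (MulAut.congr e σ) m (e s) hm (by rw [← map_pow, hs, congr_conj])
    fun y => by simpa [tr_apply] using h1 (e.symm y)

variable [Finite S]

theorem one_congr (hM : IsPModular 3 M) (e : S ≃* T) (h : One M T) : One M S := by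
  obtain ⟨α, h1, h2, h3⟩ := h
  exact ⟨tr e α, (mem_tr hM e).2 h1, nontriv_tr e h2, fun σ => (fixes_tr e).2 (h3 _)⟩

theorem two_congr (hM : IsPModular 3 M) (e : S ≃* T) (h : Two M T) : Two M S := by
  obtain ⟨α, β, h1, h2, h3, h4, h5⟩ := h
  exact ⟨tr e α, tr e β, (mem_tr hM e).2 h1, (mem_tr hM e).2 h2, nontriv_tr e h3, nontriv_tr e h4, apart_tr e h5⟩

theorem inv_congr (hM : IsPModular 3 M) (e : S ≃* T) (h : Inv M T) : Inv M S := by
  have : Fact (Nat.Prime 3) := ⟨Nat.prime_three⟩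
  intro X hX
  rcases h (X.map (MulAut.congr e).toMonoidHom) (hX.map _) with ⟨α, β, h1, h2, h3, h4, h5, h6⟩ |
    ⟨⟨α, h1, h2, h3, σ₀, h4⟩, h5⟩
  · exact .inl ⟨tr e α, tr e β, (mem_tr hM e).2 h1, (mem_tr hM e).2 h2, nontriv_tr e h3, nontriv_tr e h4, apart_tr e h5,
      fun σ hσ => ⟨(fixes_tr e).2 (h6 _ ⟨σ, hσ, rfl⟩).1, (fixes_tr e).2 (h6 _ ⟨σ, hσ, rfl⟩).2⟩⟩
  · refine .inr ⟨⟨tr e α, (mem_tr hM e).2 h1, nontriv_tr e h2, fun σ hσ => (fixes_tr e).2 (h3 _ ⟨σ, hσ, rfl⟩),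
      (MulAut.congr e).symm σ₀, fun σ hσ => ?_⟩, fun Q σ h6 h7 => ?_⟩
    · obtain ⟨j, t, h6⟩ := h4 _ ((fixes_tr e).1 hσ)
      refine ⟨j, e.symm t, (MulAut.congr e).injective ?_⟩
      rw [h6, map_mul, map_pow, MulEquiv.apply_symm_apply, congr_conj, MulEquiv.apply_symm_apply]
    · refine (MulAut.congr e).injective ((h5 (Q.mapSurjective (f := e.toMonoidHom) e.surjective) _ ?_ ?_).trans
        (map_one _).symm)
      · rwa [MulEquiv.orderOf_eq]
      · rintro _ ⟨x, hx, rfl⟩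
        simpa using h7 x hx

theorem p10_congr (hM : IsPModular 3 M) (e : S ≃* T) (h : P10 M T) : P10 M S := by
  obtain ⟨R, h1, h2, h3⟩ := h
  exact p10_of_fam (fun θ : R => tr e θ.1) (by simpa using h1) (fun θ => (mem_tr hM e).2 (h2 _ θ.2))
    fun θ θ' h4 => apart3_tr e (h3 _ θ.2 _ θ'.2 fun h5 => h4 (Subtype.ext h5))

theorem p4_congr (hM : IsPModular 3 M) (e : S ≃* T) (h : P4 M T) : P4 M S := by
  intro σ s hs hn
  obtain ⟨R, h1, h2⟩ := h (MulAut.congr e σ) (e s) (by rw [← map_pow, hs, congr_conj]) fun t h1 =>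
    hn (e.symm t) ((MulAut.congr e).injective (by rw [h1, congr_conj, MulEquiv.apply_symm_apply]))
  refine ⟨R.map (tr e).toEmbedding, by rwa [Finset.card_map], fun θ hθ => ?_⟩
  obtain ⟨α, h3, rfl⟩ := Finset.mem_map.1 hθ
  exact ⟨(mem_tr hM e).2 (h2 α h3).1, (fixes_tr e).2 (h2 α h3).2⟩

end Gal

end Cfsg.Agent.KZ.Res
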